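/-
Prime orders of automorphisms of `p`-groups generated by few elements.
* `exists_dvd_pow_sub_one_of_generators` : `σ^q = 1`, `σ ≠ 1`, `q ≠ p`, `P = ⟨s⟩` → `q ∣ p^i - 1`, some `1 ≤ i ≤ #s`
* `exists_prime_of_not_centralizing` : the same read off from an element normalising a `p`-subgroup
-/
import Cfsg.Agent.Lib.SmallOrders.Basic
import Cfsg.Agent.Lib.PGroup.Basic

namespace Cfsg.Agent.PAutPrime

theorem card_closure_le_pow {V : Type*} [Group V] [Finite V] {p : ℕ} (hp : 0 < p)
    (hc : ∀ a b : V, a * b = b * a) (he : ∀ a : V, a ^ p = 1) (s : Finset V) :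
    Nat.card (Subgroup.closure (s : Set V)) ≤ p ^ s.card := by
  classical
  induction s using Finset.induction_on with
  | empty => simp
  | insert a s ha ih =>
    rw [Finset.coe_insert, Set.insert_eq, Subgroup.closure_union, ← Subgroup.zpowers_eq_closure,
      Finset.card_insert_of_notMem ha, pow_succ]
    haveI : (Subgroup.closure (s : Set V)).Normal := ⟨fun x hx g => by rwa [hc g x, mul_inv_cancel_right]⟩
    have h1 : Nat.card (Subgroup.zpowers a) ≤ p := by
      rw [Nat.card_zpowers]; exact orderOf_le_of_pow_eq_one hp (he a)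
    have h2 : Nat.card ↥(Subgroup.zpowers a ⊔ Subgroup.closure (s : Set V)) ≤
        Nat.card (Subgroup.zpowers a) * Nat.card (Subgroup.closure (s : Set V)) := by
      show Nat.card ↥((Subgroup.zpowers a ⊔ Subgroup.closure (s : Set V) : Subgroup V) : Set V) ≤ _
      rw [Subgroup.mul_normal]
      exact Set.natCard_mul_le
    calc _ ≤ _ := h2
      _ ≤ p * p ^ s.card := Nat.mul_le_mul h1 ih
      _ = _ := mul_comm _ _

/-- An automorphism of order prime to `p` trivial on the Frattini quotient is trivial. -/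
theorem eq_one_of_frattini {P : Type*} [Group P] [Finite P] {p q : ℕ} [Fact p.Prime] [Fact q.Prime]
    (hpq : q ≠ p) (hP : IsPGroup p P) (σ : MulAut P) (hq : σ ^ q = 1)
    (h : ∀ x : P, x⁻¹ * σ x ∈ frattini P) : σ = 1 := by
  let Q : Subgroup (MulAut P) := Subgroup.zpowers σ
  obtain ⟨j, -, hj⟩ := (Nat.dvd_prime_pow (Fact.out : q.Prime)).mp (show orderOf σ ∣ q ^ 1 by
    rw [pow_one]; exact orderOf_dvd_of_pow_eq_one hq)
  have hQ : IsPGroup q Q := IsPGroup.of_card (n := j) ((Nat.card_zpowers σ).trans hj)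
  let F : Subgroup P := (MonoidHom.eqLocus σ.toMonoidHom (MonoidHom.id P))
  have hF : F ⊔ frattini P = ⊤ := by
    rw [eq_top_iff]
    intro x _
    -- a fixed point in the coset `x * Φ`
    let X := {y : P // x⁻¹ * y ∈ frattini P}
    have hinv : ∀ (τ : Q) (y : P), x⁻¹ * y ∈ frattini P → x⁻¹ * (τ : MulAut P) y ∈ frattini P := by
      intro τ y hy
      obtain ⟨i, hi⟩ := Subgroup.mem_zpowers_iff.mp τ.2
      have hmem : ∀ (i : ℤ) (y : P), y⁻¹ * (σ ^ i) y ∈ frattini P := by
        intro i
        induction i with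
        | zero => intro y; simp
        | succ i ih =>
          intro y
          rw [zpow_add_one, MulAut.mul_apply]
          have h2 := (frattini P).mul_mem (h y) (ih (σ y))
          rwa [mul_assoc, mul_inv_cancel_left] at h2
        | pred i ih =>
          intro y
          rw [zpow_sub_one, MulAut.mul_apply]
          have h1 := (frattini P).inv_mem (h ((σ⁻¹) y))
          rw [MulAut.apply_inv_self, mul_inv_rev, inv_inv] at h1
          have h2 := (frattini P).mul_mem h1 (ih ((σ⁻¹) y))
          rwa [mul_assoc, mul_inv_cancel_left] at h2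
      rw [← hi]
      have := (frattini P).mul_mem hy (hmem i y)
      rwa [mul_assoc, mul_inv_cancel_left] at this
    letI : MulAction Q X :=
      { smul := fun τ y => ⟨(τ : MulAut P) y.1, hinv τ y.1 y.2⟩
        one_smul := fun y => Subtype.ext rfl
        mul_smul := fun a b y => Subtype.ext rfl }
    have hne : (MulAction.fixedPoints Q X).Nonempty := by
      refine hQ.nonempty_fixed_point_of_prime_not_dvd_card X (fun hd => ?_)
      have hcard : Nat.card X = Nat.card (frattini P) :=
        Nat.card_congr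
          { toFun := fun y => ⟨_, y.2⟩
            invFun := fun f => ⟨x * f.1, by rw [inv_mul_cancel_left]; exact f.2⟩
            left_inv := fun y => Subtype.ext (mul_inv_cancel_left x y.1)
            right_inv := fun f => Subtype.ext (inv_mul_cancel_left x f.1) }
      obtain ⟨n, hn⟩ := IsPGroup.iff_card.mp (hP.to_subgroup (frattini P))
      rw [hcard, hn] at hd
      exact hpq ((Nat.prime_dvd_prime_iff_eq Fact.out Fact.out).mp ((Fact.out : q.Prime).dvd_of_dvd_pow hd))
    obtain ⟨⟨y, hy⟩, hyf⟩ := hne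
    have hyF : y ∈ F := congrArg Subtype.val (hyf ⟨σ, Subgroup.mem_zpowers σ⟩)
    rw [show x = y * (x⁻¹ * y)⁻¹ by group]
    exact Subgroup.mul_mem_sup hyF ((frattini P).inv_mem hy)
  have htop : F = ⊤ := frattini_nongenerating hF
  ext x
  exact (htop ▸ Subgroup.mem_top x : x ∈ F)

theorem exists_dvd_pow_sub_one_of_generators {P : Type*} [Group P] [Finite P] {p q : ℕ} [Fact p.Prime]
    [Fact q.Prime] (hpq : q ≠ p) (hP : IsPGroup p P) (s : Finset P) (hs : Subgroup.closure (s : Set P) = ⊤)
    (σ : MulAut P) (hσ : σ ≠ 1) (hq : σ ^ q = 1) : ∃ i, 1 ≤ i ∧ i ≤ s.card ∧ q ∣ p ^ i - 1 := by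
  classical
  set V := P ⧸ frattini P
  obtain ⟨e, he⟩ := IsPGroup.iff_card.mp (hP.to_quotient (frattini P))
  have hchar : (frattini P).map σ.toMonoidHom = frattini P :=
    Subgroup.characteristic_iff_map_eq.mp inferInstance σ
  let ψ : MulAut V := QuotientGroup.congr (frattini P) (frattini P) σ hchar
  have hψk : ∀ (k : ℕ) (x : P), (ψ ^ k) (QuotientGroup.mk' (frattini P) x) = QuotientGroup.mk' (frattini P) ((σ ^ k) x) := by
    intro k
    induction k with
    | zero => intro x; simp
    | succ k ih =>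
      intro x
      rw [pow_succ, MulAut.mul_apply, pow_succ, MulAut.mul_apply, show ψ (QuotientGroup.mk' (frattini P) x) =
        QuotientGroup.mk' (frattini P) (σ x) from rfl, ih]
  have hψ : ψ ≠ 1 := by
    intro h1
    refine hσ (eq_one_of_frattini hpq hP σ hq (fun x => ?_))
    refine QuotientGroup.eq.mp (Eq.symm ?_)
    exact DFunLike.congr_fun h1 (QuotientGroup.mk' (frattini P) x)
  have hψq : ψ ^ q = 1 := by
    ext v
    obtain ⟨x, rfl⟩ := QuotientGroup.mk'_surjective (frattini P) v
    rw [hψk, hq, MulAut.one_apply, MulAut.one_apply]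
  obtain ⟨i, hi1, hi2, hi3⟩ := Cfsg.Agent.SmallOrders.exists_dvd_pow_sub_one_of_action hpq he ψ hψ hψq
  refine ⟨i, hi1, hi2.trans ?_, hi3⟩
  have hgen : Subgroup.closure ((s.image (QuotientGroup.mk' (frattini P))) : Set V) = ⊤ := by
    rw [Finset.coe_image, ← MonoidHom.map_closure, hs]
    exact Subgroup.map_top_of_surjective _ (QuotientGroup.mk'_surjective _)
  have hle : Nat.card V ≤ p ^ (s.image (QuotientGroup.mk' (frattini P))).card := by
    rw [← Subgroup.card_top (G := V), ← hgen]
    refine card_closure_le_pow (Fact.out : p.Prime).pos (fun a b => ?_) (fun a => ?_) _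
    · obtain ⟨a, rfl⟩ := QuotientGroup.mk'_surjective (frattini P) a
      obtain ⟨b, rfl⟩ := QuotientGroup.mk'_surjective (frattini P) b
      rw [← map_mul, ← map_mul]
      refine QuotientGroup.eq.mpr ?_
      have := Cfsg.Agent.PGroup.commutator_le_frattini hP
        (Subgroup.commutator_mem_commutator (g₁ := b⁻¹) (g₂ := a⁻¹) (Subgroup.mem_top _) (Subgroup.mem_top _))
      rw [commutatorElement_def] at this
      simpa [mul_assoc] using this
    · obtain ⟨a, rfl⟩ := QuotientGroup.mk'_surjective (frattini P) a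
      rw [← map_pow]
      exact (QuotientGroup.eq_one_iff _).mpr (Cfsg.Agent.PGroup.pow_mem_frattini hP a)
  rw [he] at hle
  exact ((Nat.pow_le_pow_iff_right (Fact.out : p.Prime).one_lt).mp hle).trans Finset.card_image_le

/-- If `n` normalises the `p`-group `R = ⟨s⟩` without centralising it and the image of `n` has order prime to `p`,
some prime `q` dividing `o(n)` divides some `p^i - 1`, `i ≤ #s`. -/
theorem exists_prime_of_not_centralizing {G : Type*} [Group G] [Finite G] {p : ℕ} [Fact p.Prime]
    {R : Subgroup G} (hR : IsPGroup p R) (s : Finset R) (hs : Subgroup.closure (s : Set R) = ⊤)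
    {n : G} (hn : n ∈ Subgroup.normalizer (R : Set G))
    (hcop : (orderOf (Subgroup.normalizerMonoidHom R ⟨n, hn⟩)).Coprime p)
    (hnc : n ∉ Subgroup.centralizer (R : Set G)) :
    ∃ q i, q.Prime ∧ q ≠ p ∧ q ∣ orderOf n ∧ 1 ≤ i ∧ i ≤ s.card ∧ q ∣ p ^ i - 1 := by
  set a := Subgroup.normalizerMonoidHom R ⟨n, hn⟩
  have ha : a ≠ 1 := by
    intro h
    have : (⟨n, hn⟩ : Subgroup.normalizer (R : Set G)) ∈ (Subgroup.normalizerMonoidHom R).ker := h
    rw [Subgroup.normalizerMonoidHom_ker] at this
    exact hnc this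
  obtain ⟨q, hq, hqd⟩ := Nat.exists_prime_and_dvd (fun h => ha (orderOf_eq_one_iff.mp h))
  haveI := Fact.mk hq
  have hqp : q ≠ p := fun e => hq.not_dvd_one
    (hcop.gcd_eq_one ▸ Nat.dvd_gcd hqd (e ▸ dvd_rfl))
  have ho := orderOf_pow_orderOf_div (orderOf_pos a).ne' hqd
  obtain ⟨i, h1, h2, h3⟩ := exists_dvd_pow_sub_one_of_generators hqp hR s hs (a ^ (orderOf a / q))
    (fun h => by rw [h, orderOf_one] at ho; exact hq.ne_one ho.symm) (orderOf_dvd_iff_pow_eq_one.mp ho.dvd)
  exact ⟨q, i, hq, hqp, hqd.trans ((orderOf_map_dvd _ _).trans (by rw [← orderOf_submonoid])), h1, h2, h3⟩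

end Cfsg.Agent.PAutPrime
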